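/-
Consequences of coset table certificates for a subgroup of a presented group, without assuming the table is
faithful: a word fixing `0` lies in the subgroup, and an element commuting with a suitable element of prime
order lies in one of a few listed cosets.
Main results: `Setup.Covers`, `Setup.covers`, `Setup.Covers.mem_of_fix`, `Setup.Covers.stab`,
`Setup.fixes_x`.
-/
import Cfsg.Agent.EqLemmas
import Cfsg.Agent.Lib.CosetEnum.Order
import Cfsg.Agent.Lib.CosetEnum.Simple
import Cfsg.Agent.Lib.CosetEnum.SeedSplit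
import Cfsg.Agent.Lib.CosetEnum.Index
import Mathlib.GroupTheory.Perm.Cycle.Type

set_option autoImplicit false

namespace Cfsg.Agent.CosetEnum

open Data

namespace Setup

variable {Gen : Type} [DecidableEq Gen] {S : Setup Gen} {D0 D : Data}

/-- The element of a local letter. -/
def lel (S : Setup Gen) (emb : List ℕ) (a : ℕ) : S.G := S.el (emb.getD a 0)

/-- Words evaluated with local letters. -/
theorem ev_lel (emb : List ℕ) (w : List ℕ) :
    ev (S.lel emb) w = ev S.el (w.map fun a => emb.getD a 0) :=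
  (ev_map S.el (fun a => emb.getD a 0) w).symm

/-- The table maps equivariantly onto the orbit of the base coset. -/
structure Covers (S : Setup Gen) (D : Data) (emb : List ℕ) (K : Subgroup S.G) : Prop where
  perm : D.PermFacts
  tree : D.TreeFacts
  len : emb.length = D.k
  inv : ∀ a < D.k, S.lel emb (D.invl a) * S.lel emb a = 1
  map : ∃ φ : ℕ → S.G ⧸ K, φ 0 = ((1 : S.G) : S.G ⧸ K) ∧
    ∀ a < D.k, ∀ i < D.n, S.lel emb a • φ i = φ (D.act a i)

theorem covers (hgens : ∀ x, x ∈ S.gens) (hl : S.lettersOK D0 = true) (hc : D.check = true)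
    (emb : List ℕ) (hemb : embOK D0 D emb = true) (hs : List (FreeGroup Gen)) (ext : List (List ℕ))
    (hsrc : S.embSrcOK D0 D emb hs ext [] = true)
    (hext : ∀ w ∈ ext, ev (S.lel emb) w • ((1 : S.G) : S.G ⧸ S.closureOf hs)
      = ((1 : S.G) : S.G ⧸ S.closureOf hs)) :
    Covers S D emb (S.closureOf hs) := by
  have hmk := mk_eq_ev hgens hl
  simp only [embOK, Bool.and_eq_true, beq_iff, List.all_eq_true, List.mem_range, Nat.blt_eq] at hemb
  obtain ⟨hlen, hemb⟩ := hemb
  have hel : ∀ a < D.k, S.lel emb (D.invl a) * S.lel emb a = 1 := fun a ha => by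
    show S.el _ * S.el _ = 1
    rw [(hemb a ha).2]; exact el_inv hgens hl _ (hemb a ha).1
  have hperm : D.permOK = true ∧ D.treeOK = true := by
    have hc := hc
    unfold Data.check at hc
    simp only [Bool.and_eq_true] at hc
    exact ⟨hc.1, hc.2.1⟩
  have hp := permFacts hperm.1
  have hsrc' := List.all_eq_true.mp hsrc
  refine ⟨hp, treeFacts hp hperm.2, hlen, hel, exists_phi hc _ _ hel (fun w hw => ?_) (fun w hw => ?_)⟩
  · have h := hsrc' _ hw
    simp only [cond_true, Bool.or_eq_true, List.contains_iff_mem, List.mem_map, List.mem_range,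
      List.not_mem_nil, false_or] at h
    rcases h with ⟨r, hr, e⟩ | ⟨a, ha, rfl⟩
    · rw [ev_lel, ← e, ← hmk r]
      exact PresentedGroup.one_of_mem (S.allRels_mem hr)
    · show (1 * S.lel emb (D.invl a)) * S.lel emb a = 1
      rw [one_mul, hel a ha]
  · have h := hsrc' _ hw
    simp only [cond_false, Bool.or_eq_true, List.contains_iff_mem, List.mem_map] at h
    rcases h with ⟨r, hr, e⟩ | h
    · rw [ev_lel, ← e, ← hmk r]
      exact QuotientGroup.eq.mpr (by
        simpa [closureOf] using
          (Subgroup.subset_closure ⟨r, hr, rfl⟩ : PresentedGroup.mk S.rels r ∈ S.closureOf hs))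
    · exact hext w h

variable {emb : List ℕ} {K : Subgroup S.G}

theorem Covers.phi_ev (h : Covers S D emb K) {φ : ℕ → S.G ⧸ K}
    (hφ : ∀ a < D.k, ∀ i < D.n, S.lel emb a • φ i = φ (D.act a i)) :
    ∀ (w : List ℕ), (∀ a ∈ w, a < D.k) → ∀ i < D.n, ev (S.lel emb) w • φ i = φ (D.tw w i)
  | [], _, i, _ => one_smul _ _
  | a :: v, hw, i, hi => by
    show (ev (S.lel emb) v * S.lel emb a) • φ i = φ (D.tw v (D.act a i))
    rw [mul_smul, hφ a (hw a List.mem_cons_self) i hi]
    exact Covers.phi_ev h hφ v (fun b hb => hw b (List.mem_cons_of_mem a hb)) _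
      (h.perm.act_lt_n a (hw a List.mem_cons_self) i hi)

/-- Check: a word of letters fixes `0`. -/
noncomputable def fixOK (D : Data) (w : List ℕ) : Bool :=
  List.all w (fun a => Nat.blt a D.k) && Nat.beq (D.tw w 0) 0

theorem Covers.mem_of_fix (h : Covers S D emb K) {w : List ℕ} (hw : fixOK D w = true) :
    ev (S.lel emb) w ∈ K := by
  simp only [fixOK, Bool.and_eq_true, List.all_eq_true, Nat.blt_eq, beq_iff] at hw
  obtain ⟨φ, h0, hφ⟩ := h.map
  have := h.phi_ev hφ w hw.1 0 h.perm.hn
  rw [hw.2, h0] at this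
  simpa using QuotientGroup.eq.mp this.symm

theorem Covers.orbit (h : Covers S D emb K) {φ : ℕ → S.G ⧸ K}
    (hφ : ∀ a < D.k, ∀ i < D.n, S.lel emb a • φ i = φ (D.act a i)) {g : S.G}
    (hg : g ∈ S.letterGroup emb) : ∀ i < D.n, ∃ j < D.n, g • φ i = φ j := by
  rw [letterGroup] at hg
  have hletter : ∀ b ∈ emb, ∃ a < D.k, S.lel emb a = S.el b := fun b hb => by
    obtain ⟨a, ha, rfl⟩ := List.getElem_of_mem hb
    refine ⟨a, h.len ▸ ha, ?_⟩
    show S.el (emb.getD a 0) = _
    rw [List.getD_eq_getElem?_getD, List.getElem?_eq_getElem ha]; rfl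
  induction hg using Subgroup.closure_induction'' with
  | mem g hg =>
    obtain ⟨b, hb, rfl⟩ := hg
    obtain ⟨a, ha, he⟩ := hletter b hb
    intro i hi
    exact ⟨_, h.perm.act_lt_n a ha i hi, by rw [← he]; exact hφ a ha i hi⟩
  | inv_mem g hg =>
    obtain ⟨b, hb, rfl⟩ := hg
    obtain ⟨a, ha, he⟩ := hletter b hb
    intro i hi
    refine ⟨_, h.perm.act_lt_n _ (h.perm.inv_lt a ha) i hi, ?_⟩
    rw [← he, ← eq_inv_of_mul_eq_one_left (h.inv a ha)]
    exact hφ _ (h.perm.inv_lt a ha) i hi
  | one => exact fun i hi => ⟨i, hi, one_smul _ _⟩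
  | mul x y _ _ hx hy =>
    intro i hi
    obtain ⟨j, hj, e⟩ := hy i hi
    obtain ⟨l, hl, e'⟩ := hx j hj
    exact ⟨l, hl, by rw [mul_smul, e, e']⟩

/-- Check: the word has order dividing the prime `p` and fixes only the listed points. -/
noncomputable def stabOK (D : Data) (u : List ℕ) (p : ℕ) (allowed : List (List ℕ)) : Bool :=
  List.all u (fun a => Nat.blt a D.k) && (D.closed (wpow u p) && (!Nat.beq (D.n % p) 0 &&
    (List.all allowed (fun w => List.all w fun a => Nat.blt a D.k) &&
      force (D.trace u) fun V => (List.range D.n).all fun i =>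
        !Nat.beq (lane D.B V i) i || allowed.any fun w => Nat.beq (D.tw w 0) i)))

/-- An element commuting with an element of prime order with few fixed points lies in few cosets. -/
theorem Covers.stab (h : Covers S D emb K) {u : List ℕ} {p : ℕ} (hpr : p.Prime)
    {allowed : List (List ℕ)} (hok : stabOK D u p allowed = true) {g : S.G}
    (hg : g ∈ S.letterGroup emb) (hu : ev (S.lel emb) u ∈ K) (hcomm : Commute g (ev (S.lel emb) u)) :
    ∃ w ∈ allowed, (ev (S.lel emb) w)⁻¹ * g ∈ K := by
  haveI : Fact p.Prime := ⟨hpr⟩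
  simp only [stabOK, Bool.and_eq_true, List.all_eq_true, Nat.blt_eq, Bool.not_eq_eq_eq_not,
    Bool.not_true, Bool.or_eq_true, List.any_eq_true, List.mem_range, force_eq, beq_iff] at hok
  obtain ⟨huk, hclosed, hpn, hall, hfix⟩ := hok
  have hpn' : ¬ p ∣ D.n := fun hd => by
    rw [Nat.mod_eq_zero_of_dvd hd] at hpn
    simp at hpn
  obtain ⟨φ, h0, hφ⟩ := h.map
  have hp := h.perm
  obtain ⟨j, hj, hgj⟩ := h.orbit hφ hg 0 hp.hn
  -- the point is fixed by the element
  have hufix : ev (S.lel emb) u • φ j = φ j := by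
    rw [← hgj, ← mul_smul, ← hcomm.eq, mul_smul]
    congr 1
    rw [h0]
    exact QuotientGroup.eq.mpr (by simpa using hu)
  -- all fibres have the same size
  classical
  let F : ℕ → Finset ℕ := fun i => (Finset.range D.n).filter fun l => φ l = φ i
  have hsize : ∀ i < D.n, (F i).card = (F 0).card := by
    refine tree_induction hp h.tree rfl fun a ha i hi e => ?_
    refine Eq.trans ?_ e
    refine Finset.card_bij' (fun l _ => D.act (D.invl a) l) (fun l _ => D.act a l) ?_ ?_ ?_ ?_
    · intro l hl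
      simp only [F, Finset.mem_filter, Finset.mem_range] at hl ⊢
      refine ⟨hp.act_lt_n _ (hp.inv_lt a ha) l hl.1, ?_⟩
      rw [← hφ _ (hp.inv_lt a ha) l hl.1, hl.2, hφ _ (hp.inv_lt a ha) _ (hp.act_lt_n a ha i hi),
        hp.inv_act a ha i (lt_of_lt_of_le hi hp.hnN)]
    · intro l hl
      simp only [F, Finset.mem_filter, Finset.mem_range] at hl ⊢
      exact ⟨hp.act_lt_n a ha l hl.1, by rw [← hφ a ha l hl.1, hl.2, hφ a ha i hi]⟩
    · intro l hl
      simp only [F, Finset.mem_filter, Finset.mem_range] at hl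
      exact hp.act_inv a ha l (lt_of_lt_of_le hl.1 hp.hnN)
    · intro l hl
      simp only [F, Finset.mem_filter, Finset.mem_range] at hl
      exact hp.inv_act a ha l (lt_of_lt_of_le hl.1 hp.hnN)
  have hdvd : (F j).card ∣ D.n := by
    have hsum := Finset.card_eq_sum_card_image φ (Finset.range D.n)
    rw [Finset.card_range] at hsum
    rw [hsum]
    refine Finset.dvd_sum fun b hb => ?_
    obtain ⟨i, hi, rfl⟩ := Finset.mem_image.mp hb
    rw [hsize j hj, ← hsize i (Finset.mem_range.mp hi)]
  have hnp : ¬ p ∣ (F j).card := fun hd => hpn' (hd.trans hdvd)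
  -- the element permutes the fibre
  let σ : Equiv.Perm (Fin D.n) := ev (Setup.perm D hp) u
  have hmem : ∀ i : Fin D.n, φ i = φ j → φ (σ i) = φ j := fun i hi => by
    show φ ((ev (Setup.perm D hp) u i : Fin D.n) : ℕ) = φ j
    rw [ev_perm hp u huk, ← h.phi_ev hφ u huk i i.2, hi, hufix]
  have hinvmem : ∀ i : Fin D.n, φ (σ i) = φ j → φ i = φ j := fun i hi => by
    replace hi : φ ((ev (Setup.perm D hp) u i : Fin D.n) : ℕ) = φ j := hi
    rw [ev_perm hp u huk, ← h.phi_ev hφ u huk i i.2, ← hufix] at hi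
    exact smul_left_cancel _ hi
  let τ : Equiv.Perm {i : Fin D.n // φ i = φ j} :=
    σ.subtypePerm fun i => ⟨fun hi => hinvmem i hi, fun hi => hmem i hi⟩
  have hcard : Fintype.card {i : Fin D.n // φ i = φ j} = (F j).card := by
    rw [Fintype.card_subtype]
    refine Finset.card_bij (fun i _ => (i : ℕ)) ?_ ?_ ?_
    · intro i hi
      simp only [Finset.mem_filter, Finset.mem_univ, true_and] at hi
      simp [F, i.2, hi]
    · exact fun a _ b _ e => Fin.ext e
    · intro l hl
      simp only [F, Finset.mem_filter, Finset.mem_range] at hl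
      exact ⟨⟨l, hl.1⟩, by simp [hl.2], rfl⟩
  have hσp : σ ^ p = 1 := by
    rw [← ev_wpow]; exact closed_ev hp hclosed
  have hτ : τ ^ p ^ 1 = 1 := by
    rw [pow_one]
    refine Equiv.ext fun x => Subtype.ext ?_
    have e : ((τ ^ p) x : Fin D.n) = (σ ^ p) x := by
      rw [Equiv.Perm.subtypePerm_pow]; rfl
    rw [e, hσp]; rfl
  obtain ⟨⟨i, hi⟩, hfx⟩ := Equiv.Perm.exists_fixed_point_of_prime (p := p) (by rw [hcard]; exact hnp) hτ
  have hfx' : σ i = i := congrArg Subtype.val hfx
  have htw : D.tw u i = i := by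
    rw [← ev_perm hp u huk, show ev (Setup.perm D hp) u = σ from rfl, hfx']
  have hlane : lane D.B (D.trace u) i = D.tw u i := by
    rw [trace_eq hp u huk, lane_pack hp.hB
      (fun l hl => self_lt_two_pow_of_lt (by have := hp.hlg; omega) (tw_lt hp u huk l hl))
      (lt_of_lt_of_le i.2 hp.hnN)]
  rcases hfix i i.2 with hne | ⟨w, hw, hwi⟩
  · rw [hlane, htw] at hne
    simp at hne
  · refine ⟨w, hw, ?_⟩
    have h1 := h.phi_ev hφ w (hall w hw) 0 hp.hn
    rw [hwi, hi, ← hgj, h0] at h1
    simpa using QuotientGroup.eq.mp h1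

/-- Check: a derivation with some extra relators known to hold. -/
noncomputable def fixesXOK (S : Setup Gen) (D0 : Data) (emb : List ℕ) (hs : List (FreeGroup Gen))
    (xrel : List (List ℕ)) (T : Deriv) : Bool :=
  ((List.range T.k).all fun a => Nat.blt (emb.getD a 0) D0.k &&
      Nat.beq (emb.getD (T.invl a) 0) (D0.invl (emb.getD a 0))) &&
  ((T.rels.all fun w => xrel.contains w || (S.allRels.map (S.wl D0)).contains (w.map fun a => emb.getD a 0) ||
      ([] :: (List.range T.k).map fun a => [a, T.invl a]).contains w) &&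
    (T.subs.all fun w => (hs.map (S.wl D0)).contains (w.map fun a => emb.getD a 0)))

/-- A derivation with extra relators proves that its target lies in the subgroup. -/
theorem fixes_x (hgens : ∀ x, x ∈ S.gens) (hl : S.lettersOK D0 = true) {hs : List (FreeGroup Gen)}
    {T : Deriv} (hT : T.check = true) {emb : List ℕ} {xrel : List (List ℕ)}
    (hx : ∀ w ∈ xrel, ev (S.lel emb) w = 1) (h : fixesXOK S D0 emb hs xrel T = true) :
    ev (S.lel emb) T.tgt ∈ S.closureOf hs := by
  have hmk := mk_eq_ev hgens hl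
  unfold fixesXOK at h
  simp only [Bool.and_eq_true, List.all_eq_true, List.mem_range, Nat.blt_eq, beq_iff] at h
  obtain ⟨hinv, hrel, hsub⟩ := h
  have hel : ∀ a < T.k, S.lel emb (T.invl a) * S.lel emb a = 1 := fun a ha => by
    show S.el _ * S.el _ = 1
    rw [(hinv a ha).2]; exact el_inv hgens hl _ (hinv a ha).1
  have key := Deriv.target_fixes hT (S.lel emb) ((1 : S.G) : S.G ⧸ S.closureOf hs) hel (fun w hw => ?_)
    (fun w hw => ?_)
  · simpa using QuotientGroup.eq.mp key.symm
  · have h := hrel w hw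
    simp only [Bool.or_eq_true, List.contains_iff_mem, List.mem_cons, List.mem_map, List.mem_range] at h
    rcases h with (hx' | ⟨r, hr, e⟩) | rfl | ⟨a, ha, rfl⟩
    · exact hx w hx'
    · rw [ev_lel, ← e, ← hmk r]
      exact PresentedGroup.one_of_mem (S.allRels_mem hr)
    · rfl
    · show (1 * S.lel emb (T.invl a)) * S.lel emb a = 1
      rw [one_mul, hel a ha]
  · have h := hsub w hw
    simp only [List.contains_iff_mem, List.mem_map] at h
    obtain ⟨r, hr, e⟩ := h
    rw [ev_lel, ← e, ← hmk r]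
    exact QuotientGroup.eq.mpr (by
      simpa [closureOf] using
        (Subgroup.subset_closure ⟨r, hr, rfl⟩ : PresentedGroup.mk S.rels r ∈ S.closureOf hs))

/-- A derivation over the trivial subgroup proves a relation. -/
theorem eq_one_x (hgens : ∀ x, x ∈ S.gens) (hl : S.lettersOK D0 = true)
    {T : Deriv} (hT : T.check = true) {emb : List ℕ} (h : fixesXOK S D0 emb [] [] T = true) :
    ev (S.lel emb) T.tgt = 1 := by
  have := fixes_x hgens hl hT (fun w hw => by simp at hw) h
  rwa [closureOf_nil, Subgroup.mem_bot] at this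

end Setup

end Cfsg.Agent.CosetEnum
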