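/-
The group of the diagram Y555 subject to the Coxeter relations and the spider relation: generators,
relations, parity, the automorphisms permuting the arms, collapse when two joined generators are equal.
Main results: `Y555.P`, `Y555.par`, `Y555.rot`, `Y555.Flat`, `Y555.flat_of_a_b2`.
-/
import Cfsg.Agent.EqLemmas
import Cfsg.Agent.Lib.Y555.Cert
import Cfsg.Agent.Lib.Y555.DerivSpider
import Cfsg.Prelude.Def_Spor_M

set_option autoImplicit false
set_option maxRecDepth 100000

namespace Cfsg.Agent.Y555

open Cfsg.Spor Cfsg.Agent.CosetEnum Cfsg.Agent.CosetEnum.Data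

/-- The nodes of Y555. -/
abbrev Y := Bimonster.Gen

/-- The spider word. -/
abbrev spider : FreeGroup Y :=
  (Bimonster.a * Bimonster.b1 * Bimonster.c1 * Bimonster.a * Bimonster.b2 * Bimonster.c2 * Bimonster.a *
    Bimonster.b3 * Bimonster.c3) ^ 10

/-- The presentation by the Coxeter relations and the spider relation. -/
def ySetup : Setup Y where
  edges := Bimonster.edges
  extra := [spider]
  gens := [.a, .b1, .c1, .d1, .e1, .f1, .b2, .c2, .d2, .e2, .f2, .b3, .c3, .d3, .e3, .f3]
  pos := [0, 1, 2, 3, 4, 5, 6, 7, 8, 9, 10, 11, 12, 13, 14, 15]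
  lt := [(.a, true), (.b1, true), (.c1, true), (.d1, true), (.e1, true), (.f1, true), (.b2, true), (.c2, true),
    (.d2, true), (.e2, true), (.f2, true), (.b3, true), (.c3, true), (.d3, true), (.e3, true), (.f3, true)]

theorem ySetup_gens : ∀ x, x ∈ ySetup.gens := by intro x; cases x <;> simp [ySetup]

/-- The letters. -/
def yLetters : Data := letterData 16 [0, 1, 2, 3, 4, 5, 6, 7, 8, 9, 10, 11, 12, 13, 14, 15]

theorem y_letters : ySetup.lettersOK yLetters = true := by decide +kernel

/-- The group. -/
abbrev P : Type := PresentedGroup (coxRelators Bimonster.edges ∪ {r' | r' ∈ [spider]})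

/-- The image of a word. -/
abbrev mk : FreeGroup Y →* P := PresentedGroup.mk _

/-- The generators. -/
def t (x : Y) : P := PresentedGroup.of x

theorem mk_of (x : Y) : mk (FreeGroup.of x) = t x := rfl

instance : Fintype Y :=
  ⟨⟨(ySetup.gens : List Y), by decide⟩, fun x => by cases x <;> decide⟩

theorem cox (x y : Y) : (t x * t y) ^ coxLabel Bimonster.edges x y = 1 := by
  have hn : ∀ z : Y, z ∈ coxNodes Bimonster.edges := by decide
  have h : (FreeGroup.of x * FreeGroup.of y) ^ coxLabel Bimonster.edges x y ∈
      coxRelators Bimonster.edges ∪ {r' | r' ∈ [spider]} := Or.inl ⟨x, hn x, y, hn y, rfl⟩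
  have h2 := PresentedGroup.one_of_mem h
  simpa [t, PresentedGroup.of] using h2

theorem mk_spider : mk spider = 1 := PresentedGroup.one_of_mem (Or.inr (List.mem_singleton.mpr rfl))

theorem sq (x : Y) : t x * t x = 1 := by simpa [coxLabel] using cox x x

theorem inv_t (x : Y) : (t x)⁻¹ = t x := inv_eq_of_mul_eq_one_right (sq x)

theorem comm {x y : Y} (h : coxLabel Bimonster.edges x y ≤ 2) : Commute (t x) (t y) := by
  have h2 : (t x * t y) ^ coxLabel Bimonster.edges x y = 1 := cox x y
  by_cases he : x = y
  · exact he ▸ Commute.refl _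
  have hlab : coxLabel Bimonster.edges x y = 2 := by
    have : ∀ x y : Y, x ≠ y → 2 ≤ coxLabel Bimonster.edges x y := by decide +kernel
    exact le_antisymm h (this x y he)
  rw [hlab, pow_two] at h2
  show t x * t y = t y * t x
  have := eq_inv_of_mul_eq_one_left h2
  rw [this, mul_inv_rev, inv_t, inv_t]

theorem braid {x y : Y} (h : coxLabel Bimonster.edges x y = 3) : t x * t y * t x = t y * t x * t y := by
  have h2 : (t x * t y) ^ coxLabel Bimonster.edges x y = 1 := cox x y
  rw [h, pow_succ, pow_two] at h2
  have h3 : t x * t y * t x * (t y * t x * t y) = 1 := by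
    simpa [mul_assoc] using h2
  rw [eq_inv_of_mul_eq_one_left h3]
  simp [mul_assoc, inv_t]

theorem eq_of_comm {x y : Y} (h : coxLabel Bimonster.edges x y = 3) (hc : Commute (t x) (t y)) : t x = t y := by
  have hb := braid h
  rw [hc.eq, mul_assoc, sq, mul_one, mul_assoc, hc.eq, ← mul_assoc, sq, one_mul] at hb
  exact hb.symm

/-- All generators are equal. -/
def Flat : Prop := ∀ x, t x = t .a

theorem spread {x y u : Y} (he : t x = t y) (hu : coxLabel Bimonster.edges u x = 3)
    (hn : coxLabel Bimonster.edges u y ≤ 2) : t u = t x :=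
  eq_of_comm hu (he ▸ comm hn)

theorem flat_of_a_b2 (h : t .a = t .b2) : Flat := by
  have b1 : t .b1 = t .a := spread h (by decide) (by decide)
  have b3 : t .b3 = t .a := spread h (by decide) (by decide)
  have c1 : t .c1 = t .b1 := spread b1 (by decide) (by decide)
  have c2 : t .c2 = t .b2 := spread h.symm (by decide) (by decide)
  have c3 : t .c3 = t .b3 := spread b3 (by decide) (by decide)
  have d1 : t .d1 = t .c1 := spread c1 (by decide) (by decide)
  have d2 : t .d2 = t .c2 := spread c2 (by decide) (by decide)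
  have d3 : t .d3 = t .c3 := spread c3 (by decide) (by decide)
  have e1 : t .e1 = t .d1 := spread d1 (by decide) (by decide)
  have e2 : t .e2 = t .d2 := spread d2 (by decide) (by decide)
  have e3 : t .e3 = t .d3 := spread d3 (by decide) (by decide)
  have f1 : t .f1 = t .e1 := spread e1 (by decide) (by decide)
  have f2 : t .f2 = t .e2 := spread e2 (by decide) (by decide)
  have f3 : t .f3 = t .e3 := spread e3 (by decide) (by decide)
  intro x
  cases x <;> simp [b1, b3, c1, c2, c3, d1, d2, d3, e1, e2, e3, f1, f2, f3, ← h]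

theorem flat_of_c2_b2 (h : t .c2 = t .b2) : Flat :=
  flat_of_a_b2 (spread h.symm (by decide) (by decide))

theorem flat_of_c3_b3 (h : t .c3 = t .b3) : Flat := by
  have ha : t .a = t .b3 := spread h.symm (by decide) (by decide)
  have hb : t .b2 = t .a := spread ha (by decide) (by decide)
  exact flat_of_a_b2 hb.symm

theorem not_flat_ab1 (hF : ¬Flat) : ¬Commute (t .a) (t .b1) := fun hc => by
  have h1 : t .a = t .b1 := eq_of_comm (by decide) hc
  have h2 : t .b2 = t .a := spread h1 (by decide) (by decide)
  exact hF (flat_of_a_b2 h2.symm)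

/-- The parity of a word. -/
def par : P →* Multiplicative (ZMod 2) :=
  PresentedGroup.toGroup (f := fun _ : Y => Multiplicative.ofAdd (1 : ZMod 2)) (by
    rintro r (⟨x, _, y, _, rfl⟩ | hr)
    · rw [map_pow, map_mul, FreeGroup.lift_apply_of, FreeGroup.lift_apply_of,
        show Multiplicative.ofAdd (1 : ZMod 2) * Multiplicative.ofAdd (1 : ZMod 2) = 1 by decide, one_pow]
    · rw [List.mem_singleton.mp hr]
      simp only [spider, map_pow, map_mul, FreeGroup.lift_apply_of]
      decide)

@[simp] theorem par_t (x : Y) : par (t x) = Multiplicative.ofAdd (1 : ZMod 2) :=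
  PresentedGroup.toGroup.of _

theorem el_eq : ∀ i < 16, ySetup.el i = t (ySetup.gens.getD i .a) := by
  intro i hi
  interval_cases i <;> rfl

/-- A map of the nodes preserving the labels and the spider relation extends to the group. -/
def autOf (π : Y → Y) (hlab : ∀ x y, coxLabel Bimonster.edges (π x) (π y) = coxLabel Bimonster.edges x y)
    (hsp : mk (FreeGroup.map π spider) = 1) : P →* P :=
  PresentedGroup.toGroup (f := fun x => t (π x)) (by
    rintro r (⟨x, _, y, _, rfl⟩ | hr)
    · rw [map_pow, map_mul, FreeGroup.lift_apply_of, FreeGroup.lift_apply_of, ← hlab]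
      exact cox (π x) (π y)
    · rw [List.mem_singleton.mp hr]
      rw [← hsp]
      simp only [spider, map_pow, map_mul, FreeGroup.lift_apply_of, FreeGroup.map.of]
      rfl)

/-- The cyclic permutation of the arms. -/
def rotY : Y → Y
  | .a => .a
  | .b1 => .b2 | .c1 => .c2 | .d1 => .d2 | .e1 => .e2 | .f1 => .f2
  | .b2 => .b3 | .c2 => .c3 | .d2 => .d3 | .e2 => .e3 | .f2 => .f3
  | .b3 => .b1 | .c3 => .c1 | .d3 => .d1 | .e3 => .e1 | .f3 => .f1

/-- The exchange of the second and third arms. -/
def swapY : Y → Y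
  | .a => .a
  | .b1 => .b1 | .c1 => .c1 | .d1 => .d1 | .e1 => .e1 | .f1 => .f1
  | .b2 => .b3 | .c2 => .c3 | .d2 => .d3 | .e2 => .e3 | .f2 => .f3
  | .b3 => .b2 | .c3 => .c2 | .d3 => .d2 | .e3 => .e2 | .f3 => .f2

theorem spider_conj (p q r : P) (h : (p * q * r) ^ 10 = 1) : (q * r * p) ^ 10 = 1 := by
  have e : q * r * p = p⁻¹ * (p * q * r) * (p⁻¹)⁻¹ := by group
  rw [e, conj_pow, h]
  group

theorem spider_t :
    (t .a * t .b1 * t .c1 * (t .a * t .b2 * t .c2) * (t .a * t .b3 * t .c3)) ^ 10 = 1 := by
  rw [← mk_spider]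
  simp only [map_pow, map_mul, mk_of, mul_assoc]

/-- The rotation of the arms. -/
def rot : P →* P := autOf rotY (by decide +kernel) (by
  have h := spider_conj _ _ _ spider_t
  rw [← h]
  simp only [spider, map_pow, map_mul, FreeGroup.map.of, rotY, mk_of, mul_assoc])

theorem spider2_t :
    (t .a * t .b1 * t .c1 * t .a * t .b3 * t .c3 * t .a * t .b2 * t .c2) ^ 10 = 1 := by
  have h : ev (ySetup.lel spider2_emb) spider2.tgt = 1 :=
    Setup.eq_one_x ySetup_gens y_letters spider2_check (by decide +kernel)
  have hw : (spider2.tgt.map fun a => spider2_emb.getD a 0) = ySetup.wl yLetters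
      ((Bimonster.a * Bimonster.b1 * Bimonster.c1 * Bimonster.a * Bimonster.b3 * Bimonster.c3 * Bimonster.a *
        Bimonster.b2 * Bimonster.c2) ^ 10) := by decide +kernel
  rw [Setup.ev_lel, hw, ← Setup.mk_eq_ev ySetup_gens y_letters, map_pow] at h
  simp only [map_mul] at h
  exact h

/-- The exchange of two arms. -/
def swap : P →* P := autOf swapY (by decide +kernel) (by
  rw [← spider2_t]
  simp only [spider, map_pow, map_mul, FreeGroup.map.of, swapY, mk_of])

@[simp] theorem rot_t (x : Y) : rot (t x) = t (rotY x) := by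
  unfold rot autOf
  exact PresentedGroup.toGroup.of _

@[simp] theorem swap_t (x : Y) : swap (t x) = t (swapY x) := by
  unfold swap autOf
  exact PresentedGroup.toGroup.of _

theorem rot_mk (r : FreeGroup Y) : rot (mk r) = mk (FreeGroup.map rotY r) :=
  DFunLike.congr_fun (FreeGroup.ext_hom (f := rot.comp mk) (g := mk.comp (FreeGroup.map rotY))
    (fun x => by simp [mk_of])) r

theorem swap_mk (r : FreeGroup Y) : swap (mk r) = mk (FreeGroup.map swapY r) :=
  DFunLike.congr_fun (FreeGroup.ext_hom (f := swap.comp mk) (g := mk.comp (FreeGroup.map swapY))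
    (fun x => by simp [mk_of])) r

end Cfsg.Agent.Y555
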