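/-
Elements of parabolic subgroups of the Y555 spider group commuting with many generators, read off from small
coset tables.
Main results: `Y555.of_A6`, `Y555.of_E7`, `Y555.of_Y322`, `Y555.of_Y422`.
-/
import Cfsg.Agent.EqLemmas
import Cfsg.Agent.Lib.Y555.Setup
import Cfsg.Agent.Lib.Y555.TableA
import Cfsg.Agent.Lib.Y555.TableT
import Cfsg.Agent.Lib.Y555.TableE

set_option autoImplicit false
set_option maxRecDepth 100000

namespace Cfsg.Agent.Y555

open Cfsg.Spor Cfsg.Agent.CosetEnum Cfsg.Agent.CosetEnum.Data

/-- The subgroup generated by some nodes. -/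
def sub (l : List Y) : Subgroup P := Subgroup.closure (t '' {x | x ∈ l})

theorem t_mem {l : List Y} {x : Y} (h : x ∈ l) : t x ∈ sub l := Subgroup.subset_closure ⟨x, h, rfl⟩

theorem closureOf_map (l : List Y) : ySetup.closureOf (l.map FreeGroup.of) = sub l := by
  unfold Setup.closureOf sub
  congr 1
  ext g
  simp only [Set.mem_image, Set.mem_ofPred_eq, List.mem_map]
  constructor
  · rintro ⟨_, ⟨x, hx, rfl⟩, rfl⟩; exact ⟨x, hx, rfl⟩
  · rintro ⟨x, hx, rfl⟩; exact ⟨_, ⟨x, hx, rfl⟩, rfl⟩

theorem el_sg (x : Y) : ySetup.el (ySetup.sg x) = t x := by cases x <;> rfl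

theorem letterGroup_map {emb : List ℕ} {l : List Y} (h : emb = l.map ySetup.sg) :
    ySetup.letterGroup emb = sub l := by
  subst h
  unfold Setup.letterGroup sub
  congr 1
  ext g
  simp only [Set.mem_image, Set.mem_ofPred_eq, List.mem_map]
  constructor
  · rintro ⟨_, ⟨x, hx, rfl⟩, rfl⟩; exact ⟨x, hx, (el_sg x).symm⟩
  · rintro ⟨x, hx, rfl⟩; exact ⟨_, ⟨x, hx, rfl⟩, el_sg x⟩

/-- The generators of the centraliser argument. -/
theorem comm_sub {g : P} {l : List Y} (h : ∀ x ∈ l, Commute g (t x)) : ∀ k ∈ sub l, Commute g k := by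
  intro k hk
  have hle : sub l ≤ Subgroup.centralizer {g} := by
    rw [sub, Subgroup.closure_le]
    rintro _ ⟨x, hx, rfl⟩
    exact Subgroup.mem_centralizer_singleton_iff.mpr (h x hx).eq.symm
  exact (Subgroup.mem_centralizer_singleton_iff.mp (hle hk)).symm

/-- The value of a word in local letters. -/
def lev (emb : List ℕ) (w : List ℕ) : P := ev (ySetup.lel emb) w

/-- Check: all letters of the word are among the nodes of the list. -/
def inOK (emb : List ℕ) (l : List Y) (u : List ℕ) : Bool := u.all fun a => (l.map ySetup.sg).contains (emb.getD a 0)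

theorem ev_mem_sub {emb : List ℕ} {l : List Y} {u : List ℕ} (h : inOK emb l u = true) :
    lev emb u ∈ sub l := by
  refine Setup.ev_mem (M := P) (fun a => ySetup.lel emb a) (sub l) _ fun a ha => ?_
  have h2 : emb.getD a 0 ∈ l.map ySetup.sg := by simpa using List.all_eq_true.mp h a ha
  obtain ⟨x, hx, e⟩ := List.mem_map.mp h2
  show ySetup.el (emb.getD a 0) ∈ _
  rw [← e, el_sg]
  exact t_mem hx

/-- One descent. -/
theorem descend {D : Data} {emb : List ℕ} {l l' : List Y}
    (h : Setup.Covers ySetup D emb (ySetup.closureOf (l'.map FreeGroup.of)))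
    (hemb : emb = l.map ySetup.sg) {u : List ℕ} {p : ℕ} (hp : p.Prime) {allowed : List (List ℕ)}
    (hok : Setup.stabOK D u p allowed = true) (hu : inOK emb l' u = true) {g : P} (hg : g ∈ sub l)
    (hc : ∀ x ∈ l', Commute g (t x)) : ∃ w ∈ allowed, (lev emb w)⁻¹ * g ∈ sub l' := by
  have hu' := ev_mem_sub hu
  obtain ⟨w, hw, hm⟩ := h.stab hp hok (g := g) (by rw [letterGroup_map hemb]; exact hg)
    (by rw [closureOf_map]; exact hu') (comm_sub hc _ hu')
  exact ⟨w, hw, by rw [closureOf_map] at hm; exact hm⟩

theorem descend0 {D : Data} {emb : List ℕ} {l l' : List Y}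
    (h : Setup.Covers ySetup D emb (ySetup.closureOf (l'.map FreeGroup.of)))
    (hemb : emb = l.map ySetup.sg) {u : List ℕ} {p : ℕ} (hp : p.Prime)
    (hok : Setup.stabOK D u p [[]] = true) (hu : inOK emb l' u = true) {g : P} (hg : g ∈ sub l)
    (hc : ∀ x ∈ l', Commute g (t x)) : g ∈ sub l' := by
  obtain ⟨w, hw, hm⟩ := descend h hemb hp hok hu hg hc
  rw [List.mem_singleton.mp hw] at hm
  rw [show lev emb [] = 1 from rfl, inv_one, one_mul] at hm
  exact hm

/-- The nodes of the subdiagrams. -/
abbrev lC1 : List Y := [.c2]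
/-- The nodes of type A2. -/
abbrev lC2 : List Y := [.b2, .c2]
/-- The nodes of type A3. -/
abbrev lC3 : List Y := [.a, .b2, .c2]
/-- The nodes of type A4. -/
abbrev lC4 : List Y := [.a, .b1, .b2, .c2]
/-- The nodes of type A5. -/
abbrev lC5 : List Y := [.a, .b1, .c1, .b2, .c2]
/-- The nodes of type A6. -/
abbrev lA6 : List Y := [.a, .b1, .c1, .d1, .b2, .c2]
/-- The nodes of type E7. -/
abbrev lE7 : List Y := [.a, .b1, .c1, .d1, .b2, .c2, .b3]
/-- The nodes of Y322. -/
abbrev l322 : List Y := [.a, .b1, .c1, .d1, .b2, .c2, .b3, .c3]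
/-- The nodes of Y422. -/
abbrev l422 : List Y := [.a, .b1, .c1, .d1, .e1, .b2, .c2, .b3, .c3]

theorem cov_c2 : Setup.Covers ySetup c2 c2_emb (ySetup.closureOf (lC1.map FreeGroup.of)) :=
  Setup.covers ySetup_gens y_letters c2_check c2_emb (by decide +kernel) _ [] (by decide +kernel)
    (fun w hw => by simp at hw)

theorem cov_c3 : Setup.Covers ySetup c3 c3_emb (ySetup.closureOf (lC2.map FreeGroup.of)) :=
  Setup.covers ySetup_gens y_letters c3_check c3_emb (by decide +kernel) _ [] (by decide +kernel)
    (fun w hw => by simp at hw)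

theorem cov_c4 : Setup.Covers ySetup c4 c4_emb (ySetup.closureOf (lC3.map FreeGroup.of)) :=
  Setup.covers ySetup_gens y_letters c4_check c4_emb (by decide +kernel) _ [] (by decide +kernel)
    (fun w hw => by simp at hw)

theorem cov_c5 : Setup.Covers ySetup c5 c5_emb (ySetup.closureOf (lC4.map FreeGroup.of)) :=
  Setup.covers ySetup_gens y_letters c5_check c5_emb (by decide +kernel) _ [] (by decide +kernel)
    (fun w hw => by simp at hw)

theorem cov_c6 : Setup.Covers ySetup c6 c6_emb (ySetup.closureOf (lC5.map FreeGroup.of)) :=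
  Setup.covers ySetup_gens y_letters c6_check c6_emb (by decide +kernel) _ [] (by decide +kernel)
    (fun w hw => by simp at hw)

theorem cov_e576 : Setup.Covers ySetup e576 e576_emb (ySetup.closureOf (lA6.map FreeGroup.of)) :=
  Setup.covers ySetup_gens y_letters e576_check e576_emb (by decide +kernel) _ [] (by decide +kernel)
    (fun w hw => by simp at hw)

theorem cov_a12 : Setup.Covers ySetup a12 a12_emb (ySetup.closureOf (lE7.map FreeGroup.of)) := by
  have h0 := Setup.seed_fixes (hs := lE7.map FreeGroup.of) (emb := a12_emb) ySetup_gens y_letters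
    a12_seed0_check (by decide +kernel)
  have h1 := Setup.seed_fixes_ext (hs := lE7.map FreeGroup.of) (emb := a12_emb) ySetup_gens y_letters
    a12_seed1_check [a12_seed0.tgt] (fun w hw => by rw [List.mem_singleton.mp hw]; exact h0) (by decide +kernel)
  refine Setup.covers ySetup_gens y_letters a12_check a12_emb (by decide +kernel) _
    [a12_seed0.tgt, a12_seed1.tgt] (by decide +kernel) fun w hw => ?_
  simp only [List.mem_cons, List.not_mem_nil, or_false] at hw
  rcases hw with rfl | rfl
  · exact h0
  · exact h1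

theorem cov_t422 : Setup.Covers ySetup t422 t422_emb (ySetup.closureOf (l322.map FreeGroup.of)) := by
  have h0 := Setup.seed_fixes (hs := l322.map FreeGroup.of) (emb := t422_emb) ySetup_gens y_letters
    t422_seed0_check (by decide +kernel)
  refine Setup.covers ySetup_gens y_letters t422_check t422_emb (by decide +kernel) _
    [t422_seed0.tgt] (by decide +kernel) fun w hw => ?_
  rw [List.mem_singleton.mp hw]
  exact h0

/-- A central element of `A6` is trivial unless everything collapses. -/
theorem of_A6 (hF : ¬Flat) {g : P} (hg : g ∈ sub lA6) (hc : ∀ x ∈ lA6, Commute g (t x)) : g = 1 := by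
  have h5 : g ∈ sub lC5 := descend0 cov_c6 (by decide +kernel) (u := [0, 2, 5]) (p := 2) (by norm_num)
    (by decide +kernel) (by decide +kernel) hg (fun x hx => hc x (by revert hx; cases x <;> decide))
  have h4 : g ∈ sub lC4 := descend0 cov_c5 (by decide +kernel) (u := [1, 0, 3, 4]) (p := 5) (by norm_num)
    (by decide +kernel) (by decide +kernel) h5 (fun x hx => hc x (by revert hx; cases x <;> decide))
  have h3 : g ∈ sub lC3 := descend0 cov_c4 (by decide +kernel) (u := [0, 3]) (p := 2) (by norm_num)
    (by decide +kernel) (by decide +kernel) h4 (fun x hx => hc x (by revert hx; cases x <;> decide))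
  have h2 : g ∈ sub lC2 := descend0 cov_c3 (by decide +kernel) (u := [1, 2]) (p := 3) (by norm_num)
    (by decide +kernel) (by decide +kernel) h3 (fun x hx => hc x (by revert hx; cases x <;> decide))
  have h1 : g ∈ sub lC1 := descend0 cov_c2 (by decide +kernel) (u := [1]) (p := 2) (by norm_num)
    (by decide +kernel) (by decide +kernel) h2 (fun x hx => hc x (by revert hx; cases x <;> decide))
  have hcase : g = 1 ∨ g = t .c2 := by
    clear hg hc h5 h4 h3 h2
    rw [sub] at h1
    induction h1 using Subgroup.closure_induction with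
    | mem y hy =>
      obtain ⟨x, hx, rfl⟩ := hy
      exact Or.inr (by rw [List.mem_singleton.mp hx])
    | one => exact Or.inl rfl
    | mul y z _ _ hy hz =>
      rcases hy with rfl | rfl <;> rcases hz with rfl | rfl <;> simp [sq]
    | inv y _ hy => rcases hy with rfl | rfl <;> simp [inv_t]
  rcases hcase with h | rfl
  · exact h
  · exact absurd (flat_of_c2_b2 (eq_of_comm (by decide) (hc .b2 (by decide)))) hF

end Cfsg.Agent.Y555
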