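/-
Powers of Coxeter elements of types E7 and E8 in the Y555 spider group: centrality, uniqueness, and the
classification of elements commuting with the generators of smaller subdiagrams.
Main results: `Y555.W12_eq_W13`, `Y555.Z_comm_c3`, `Y555.of_Y422`.
-/
import Cfsg.Agent.EqLemmas
import Cfsg.Agent.Lib.Y555.Cosets
import Cfsg.Agent.Lib.Y555.DerivW
import Cfsg.Agent.Lib.Y555.DerivZ

set_option autoImplicit false
set_option maxRecDepth 100000

namespace Cfsg.Agent.Y555

open Cfsg.Spor Cfsg.Agent.CosetEnum Cfsg.Agent.CosetEnum.Data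

theorem lev_append (emb : List ℕ) (u v : List ℕ) : lev emb (u ++ v) = lev emb v * lev emb u :=
  Data.ev_append (G := P) (fun i => ySetup.lel emb i) u v

theorem lev_wl {emb : List ℕ} {l : List ℕ} (w : FreeGroup Y)
    (h : (l.map fun i => emb.getD i 0) = ySetup.wl yLetters w) : lev emb l = mk w := by
  show ev (ySetup.lel emb) l = _
  rw [Setup.ev_lel, h, ← Setup.mk_eq_ev ySetup_gens y_letters]
  rfl

/-- A letter as an element of `P`. -/
def elP (i : ℕ) : P := ySetup.el i

theorem elP_sg (x : Y) : elP (ySetup.sg x) = t x := el_sg x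

theorem lev_single {emb : List ℕ} {i : ℕ} (x : Y) (h : emb.getD i 0 = ySetup.sg x) : lev emb [i] = t x := by
  show (1 : P) * elP (emb.getD i 0) = t x
  rw [one_mul, h, elP_sg]

/-- The word of the power of a Coxeter element of type E7, arms (1, 2). -/
abbrev wordW : FreeGroup Y := (Bimonster.a * Bimonster.b1 * Bimonster.b2 * Bimonster.b3 * Bimonster.c1 * Bimonster.c2 * Bimonster.d1) ^ 9
/-- The word of the power of a Coxeter element of type E8, arms (1, 2). -/
abbrev wordZ : FreeGroup Y := (Bimonster.a * Bimonster.b1 * Bimonster.b2 * Bimonster.b3 * Bimonster.c1 * Bimonster.c2 * Bimonster.d1 * Bimonster.e1) ^ 15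

/-- The central element of W(E7), long arm 1, middle arm 2. -/
def W12 : P := mk wordW
/-- The central element of W(E8), long arm 1, middle arm 2. -/
def Z12 : P := mk wordZ

/-- The same element with arms (1, 3). -/
def W13 : P := swap W12

theorem comm_of_deriv {T : Deriv} (hT : T.check = true) {emb : List ℕ}
    (h : Setup.fixesXOK ySetup yLetters emb [] [] T = true) (w : FreeGroup Y) (x : Y)
    (htgt : (T.tgt.map fun i => emb.getD i 0) =
      ySetup.wl yLetters w ++ [ySetup.sg x] ++ ySetup.wl yLetters w⁻¹ ++ [ySetup.sg x]) :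
    Commute (mk w) (t x) := by
  have h1 : ev (ySetup.lel emb) T.tgt = 1 := Setup.eq_one_x ySetup_gens y_letters hT h
  rw [Setup.ev_lel, htgt, Data.ev_append, Data.ev_append, Data.ev_append,
    ← Setup.mk_eq_ev ySetup_gens y_letters, ← Setup.mk_eq_ev ySetup_gens y_letters] at h1
  replace h1 : (1 * elP (ySetup.sg x)) * (mk w⁻¹ * ((1 * elP (ySetup.sg x)) * mk w)) = 1 := h1
  have h2 : t x * ((mk w)⁻¹ * (t x * mk w)) = 1 := by
    rw [elP_sg, one_mul, map_inv] at h1
    exact h1
  have h3 := eq_inv_of_mul_eq_one_right h2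
  rw [inv_t, inv_mul_eq_iff_eq_mul] at h3
  exact h3.symm

theorem W12_t : W12 = (t .a * t .b1 * t .b2 * t .b3 * t .c1 * t .c2 * t .d1) ^ 9 := by
  simp only [W12, wordW, map_pow, map_mul]
  rfl

theorem Z12_t : Z12 = (t .a * t .b1 * t .b2 * t .b3 * t .c1 * t .c2 * t .d1 * t .e1) ^ 15 := by
  simp only [Z12, wordZ, map_pow, map_mul]
  rfl

theorem W13_t : W13 = (t .a * t .b1 * t .b3 * t .b2 * t .c1 * t .c3 * t .d1) ^ 9 := by
  rw [W13, W12_t]
  simp only [map_pow, map_mul, swap_t, swapY]

theorem W_comm_E7 : ∀ x ∈ lE7, Commute W12 (t x) := by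
  have hb1 : Commute W12 (t .b1) := comm_of_deriv wc_b1_check (emb := wc_emb) (by decide +kernel) wordW .b1 (by decide +kernel)
  have hc1 : Commute W12 (t .c1) := comm_of_deriv wc_c1_check (emb := wc_emb) (by decide +kernel) wordW .c1 (by decide +kernel)
  have hb2 : Commute W12 (t .b2) := comm_of_deriv wc_b2_check (emb := wc_emb) (by decide +kernel) wordW .b2 (by decide +kernel)
  have hc2 : Commute W12 (t .c2) := comm_of_deriv wc_c2_check (emb := wc_emb) (by decide +kernel) wordW .c2 (by decide +kernel)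
  have hb3 : Commute W12 (t .b3) := comm_of_deriv wc_b3_check (emb := wc_emb) (by decide +kernel) wordW .b3 (by decide +kernel)
  have hd1 : Commute W12 (t .d1) := comm_of_deriv wc_d1_check (emb := wc_emb) (by decide +kernel) wordW .d1 (by decide +kernel)
  have hC : Commute W12 (t .a * t .b1 * t .b2 * t .b3 * t .c1 * t .c2 * t .d1) := by
    rw [W12_t]; exact (Commute.refl _).pow_left 9
  have hR : Commute W12 (t .b1 * t .b2 * t .b3 * t .c1 * t .c2 * t .d1) :=
    ((((hb1.mul_right hb2).mul_right hb3).mul_right hc1).mul_right hc2).mul_right hd1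
  have ha : Commute W12 (t .a) := by
    have e : t .a = t .a * t .b1 * t .b2 * t .b3 * t .c1 * t .c2 * t .d1 *
        (t .b1 * t .b2 * t .b3 * t .c1 * t .c2 * t .d1)⁻¹ := by group
    rw [e]
    exact hC.mul_right hR.inv_right
  intro x hx
  simp only [lE7, List.mem_cons, List.not_mem_nil, or_false] at hx
  rcases hx with rfl | rfl | rfl | rfl | rfl | rfl | rfl <;> assumption

theorem Z_comm_E8 : ∀ x ∈ [Bimonster.Gen.a, .b1, .c1, .d1, .e1, .b2, .c2, .b3], Commute Z12 (t x) := by
  have hb1 : Commute Z12 (t .b1) := comm_of_deriv zc_b1_check (emb := zc_emb) (by decide +kernel) wordZ .b1 (by decide +kernel)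
  have hc1 : Commute Z12 (t .c1) := comm_of_deriv zc_c1_check (emb := zc_emb) (by decide +kernel) wordZ .c1 (by decide +kernel)
  have hb2 : Commute Z12 (t .b2) := comm_of_deriv zc_b2_check (emb := zc_emb) (by decide +kernel) wordZ .b2 (by decide +kernel)
  have hc2 : Commute Z12 (t .c2) := comm_of_deriv zc_c2_check (emb := zc_emb) (by decide +kernel) wordZ .c2 (by decide +kernel)
  have hb3 : Commute Z12 (t .b3) := comm_of_deriv zc_b3_check (emb := zc_emb) (by decide +kernel) wordZ .b3 (by decide +kernel)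
  have hd1 : Commute Z12 (t .d1) := comm_of_deriv zc_d1_check (emb := zc_emb) (by decide +kernel) wordZ .d1 (by decide +kernel)
  have he1 : Commute Z12 (t .e1) := comm_of_deriv zc_e1_check (emb := zc_emb) (by decide +kernel) wordZ .e1 (by decide +kernel)
  have hC : Commute Z12 (t .a * t .b1 * t .b2 * t .b3 * t .c1 * t .c2 * t .d1 * t .e1) := by
    rw [Z12_t]; exact (Commute.refl _).pow_left 15
  have hR : Commute Z12 (t .b1 * t .b2 * t .b3 * t .c1 * t .c2 * t .d1 * t .e1) :=
    (((((hb1.mul_right hb2).mul_right hb3).mul_right hc1).mul_right hc2).mul_right hd1).mul_right he1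
  have ha : Commute Z12 (t .a) := by
    have e : t .a = t .a * t .b1 * t .b2 * t .b3 * t .c1 * t .c2 * t .d1 * t .e1 *
        (t .b1 * t .b2 * t .b3 * t .c1 * t .c2 * t .d1 * t .e1)⁻¹ := by group
    rw [e]
    exact hC.mul_right hR.inv_right
  intro x hx
  simp only [List.mem_cons, List.not_mem_nil, or_false] at hx
  rcases hx with rfl | rfl | rfl | rfl | rfl | rfl | rfl | rfl <;> assumption

theorem W12_mem : W12 ∈ sub lE7 := by
  rw [W12_t]
  exact pow_mem (mul_mem (mul_mem (mul_mem (mul_mem (mul_mem (mul_mem (t_mem (by decide)) (t_mem (by decide)))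
    (t_mem (by decide))) (t_mem (by decide))) (t_mem (by decide))) (t_mem (by decide))) (t_mem (by decide))) 9

theorem Z_comm_W : Commute Z12 W12 := by
  refine comm_sub (fun x hx => Z_comm_E8 x ?_) _ W12_mem
  revert hx; cases x <;> decide

theorem par_W12 : par W12 = Multiplicative.ofAdd (1 : ZMod 2) := by
  rw [W12_t]; simp only [map_pow, map_mul, par_t]; decide

theorem par_Z12 : par Z12 = 1 := by
  rw [Z12_t]; simp only [map_pow, map_mul, par_t]; decide

/-- An element of `E7` commuting with `A6` is trivial or central. -/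
theorem of_E7 (hF : ¬Flat) {g : P} (hg : g ∈ sub lE7) (hc : ∀ x ∈ lA6, Commute g (t x)) : g = 1 ∨ g = W12 := by
  obtain ⟨w, hw, hm⟩ := descend cov_e576 (l := lE7) (by decide +kernel) (u := [5, 4, 3, 2, 1, 0]) (p := 7)
    (by norm_num) (allowed := [[], Setup.wpow [3, 5, 2, 6, 4, 1, 0] 9]) (by decide +kernel) (by decide +kernel) hg hc
  simp only [List.mem_cons, List.not_mem_nil, or_false] at hw
  rcases hw with rfl | rfl
  · rw [show lev e576_emb [] = 1 from rfl, inv_one, one_mul] at hm
    exact Or.inl (of_A6 hF hm hc)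
  · rw [lev_wl wordW (by decide +kernel)] at hm
    refine Or.inr (inv_mul_eq_one.mp (of_A6 hF hm fun x hx => ?_)).symm
    exact ((W_comm_E7 x (by revert hx; cases x <;> decide)).inv_left).mul_left (hc x hx)

theorem W12_sq (hF : ¬Flat) : W12 * W12 = 1 := by
  rcases of_E7 hF (mul_mem W12_mem W12_mem)
    (fun x hx => (W_comm_E7 x (by revert hx; cases x <;> decide)).mul_left
      (W_comm_E7 x (by revert hx; cases x <;> decide))) with h | h
  · exact h
  · have := congrArg par h
    rw [map_mul, par_W12] at this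
    exact absurd this (by decide)

theorem W_comm_c3 (hF : ¬Flat) : Commute W12 (t .c3) := by
  have hmem : lev a12_emb ([7] ++ Setup.wpow [3, 5, 2, 6, 4, 1, 0] 9 ++ [7]) ∈ sub lE7 := by
    have := cov_a12.mem_of_fix (w := [7] ++ Setup.wpow [3, 5, 2, 6, 4, 1, 0] 9 ++ [7]) (by decide +kernel)
    rwa [closureOf_map] at this
  rw [lev_append, lev_append, lev_single .c3 (by decide), lev_wl wordW (by decide +kernel), ← W12] at hmem
  have hc : ∀ x ∈ lA6, Commute (t .c3 * (W12 * t .c3)) (t x) := fun x hx => by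
    have h3 : Commute (t .c3) (t x) := comm (by revert hx; cases x <;> decide)
    exact h3.mul_left ((W_comm_E7 x (by revert hx; cases x <;> decide)).mul_left h3)
  rcases of_E7 hF hmem hc with h | h
  · have := congrArg par h
    rw [map_mul, map_mul, par_W12, par_t, par.map_one] at this
    exact absurd this (by decide)
  · show W12 * t .c3 = t .c3 * W12
    conv_rhs => rw [← h]
    rw [← mul_assoc (t .c3) (t .c3), sq, one_mul]

theorem W13_mem : W13 ∈ sub lE7 := by
  have := cov_a12.mem_of_fix (w := Setup.wpow [3, 7, 2, 4, 6, 1, 0] 9) (by decide +kernel)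
  rw [closureOf_map] at this
  have h : lev a12_emb (Setup.wpow [3, 7, 2, 4, 6, 1, 0] 9) = W13 := by
    rw [lev_wl ((Bimonster.a * Bimonster.b1 * Bimonster.b3 * Bimonster.b2 * Bimonster.c1 * Bimonster.c3 * Bimonster.d1) ^ 9) (by decide +kernel), W13_t]
    simp only [map_pow, map_mul]
    rfl
  rw [← h]
  exact this

theorem W12_eq_W13 (hF : ¬Flat) : W12 = W13 := by
  have hc : ∀ x ∈ lA6, Commute W13 (t x) := fun x hx => by
    simp only [lA6, List.mem_cons, List.not_mem_nil, or_false] at hx
    rcases hx with rfl | rfl | rfl | rfl | rfl | rfl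
    · simpa [swapY, W13] using (W_comm_E7 .a (by decide)).map swap
    · simpa [swapY, W13] using (W_comm_E7 .b1 (by decide)).map swap
    · simpa [swapY, W13] using (W_comm_E7 .c1 (by decide)).map swap
    · simpa [swapY, W13] using (W_comm_E7 .d1 (by decide)).map swap
    · simpa [swapY, W13] using (W_comm_E7 .b3 (by decide)).map swap
    · simpa [swapY, W13] using (W_comm_c3 hF).map swap
  rcases of_E7 hF W13_mem hc with h | h
  · have := congrArg par h
    rw [W13_t] at this
    simp only [map_pow, map_mul, par_t, par.map_one] at this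
    exact absurd this (by decide)
  · exact h.symm

/-- An element of `Y322` commuting with `A6`. -/
theorem of_Y322 (hF : ¬Flat) {g : P} (hg : g ∈ sub l322) (hc : ∀ x ∈ lA6, Commute g (t x)) :
    g = 1 ∨ g = W12 ∨ g = t .c3 ∨ g = t .c3 * W12 := by
  have hg' : g ∈ sub lE7 ∨ (t .c3)⁻¹ * g ∈ sub lE7 := by
    have hu : inOK a12_emb lA6 [5, 4, 3, 2, 1, 0] = true := by decide +kernel
    have hu' := ev_mem_sub hu
    obtain ⟨w, hw, hm⟩ := cov_a12.stab (p := 7) (by norm_num) (u := [5, 4, 3, 2, 1, 0])
      (allowed := [[], [7]]) (by decide +kernel) (g := g)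
      (by rw [letterGroup_map (l := l322) (by decide +kernel)]; exact hg)
      (by rw [closureOf_map]; exact ev_mem_sub (by decide +kernel)) (comm_sub hc _ hu')
    rw [closureOf_map] at hm
    replace hm : (lev a12_emb w)⁻¹ * g ∈ sub lE7 := hm
    simp only [List.mem_cons, List.not_mem_nil, or_false] at hw
    rcases hw with rfl | rfl
    · rw [show lev a12_emb [] = 1 from rfl, inv_one, one_mul] at hm
      exact Or.inl hm
    · rw [lev_single .c3 (by decide)] at hm
      exact Or.inr hm
  rcases hg' with h | h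
  · rcases of_E7 hF h hc with e | e
    · exact Or.inl e
    · exact Or.inr (Or.inl e)
  · have hc' : ∀ x ∈ lA6, Commute ((t .c3)⁻¹ * g) (t x) := fun x hx =>
      (comm (x := .c3) (by revert hx; cases x <;> decide)).inv_left.mul_left (hc x hx)
    rcases of_E7 hF h hc' with e | e
    · exact Or.inr (Or.inr (Or.inl (inv_mul_eq_one.mp e).symm))
    · exact Or.inr (Or.inr (Or.inr (inv_mul_eq_iff_eq_mul.mp e)))

/-- An element of `Y422` commuting with the generators of `Y322`. -/
theorem of_Y422 {g : P} (hg : g ∈ sub l422) (hc : ∀ x ∈ l322, Commute g (t x)) :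
    g ∈ sub l322 ∨ Z12⁻¹ * g ∈ sub l322 := by
  obtain ⟨w, hw, hm⟩ := descend cov_t422 (l := l422) (by decide +kernel) (u := [1, 6, 0, 2, 5, 3, 7, 8]) (p := 13)
    (by norm_num) (allowed := [[], Setup.wpow [4, 3, 6, 2, 7, 5, 1, 0] 15]) (by decide +kernel) (by decide +kernel) hg hc
  simp only [List.mem_cons, List.not_mem_nil, or_false] at hw
  rcases hw with rfl | rfl
  · rw [show lev t422_emb [] = 1 from rfl, inv_one, one_mul] at hm
    exact Or.inl hm
  · rw [lev_wl wordZ (by decide +kernel)] at hm
    exact Or.inr hm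

theorem Z_comm_c3 (hF : ¬Flat) : Commute Z12 (t .c3) := by
  have hmem : lev t422_emb ([8] ++ Setup.wpow [4, 3, 6, 2, 7, 5, 1, 0] 15 ++ [8] ++
      Setup.wpow [0, 1, 5, 7, 2, 6, 3, 4] 15) ∈ sub l322 := by
    have := cov_t422.mem_of_fix (w := [8] ++ Setup.wpow [4, 3, 6, 2, 7, 5, 1, 0] 15 ++ [8] ++
      Setup.wpow [0, 1, 5, 7, 2, 6, 3, 4] 15) (by decide +kernel)
    rwa [closureOf_map] at this
  rw [lev_append, lev_append, lev_append, lev_single .c3 (by decide),
    lev_wl (l := Setup.wpow [4, 3, 6, 2, 7, 5, 1, 0] 15) wordZ (by decide +kernel),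
    lev_wl (l := Setup.wpow [0, 1, 5, 7, 2, 6, 3, 4] 15) wordZ⁻¹ (by decide +kernel), map_inv, ← Z12] at hmem
  have hc : ∀ x ∈ lA6, Commute (Z12⁻¹ * (t .c3 * (Z12 * t .c3))) (t x) := fun x hx => by
    have h3 : Commute (t .c3) (t x) := comm (by revert hx; cases x <;> decide)
    have hz : Commute Z12 (t x) := Z_comm_E8 x (by revert hx; cases x <;> decide)
    exact hz.inv_left.mul_left (h3.mul_left (hz.mul_left h3))
  rcases of_Y322 hF hmem hc with h | h | h | h
  · rw [inv_mul_eq_one] at h
    show Z12 * t .c3 = t .c3 * Z12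
    conv_rhs => rw [h]
    rw [← mul_assoc (t .c3) (t .c3), sq, one_mul]
  · have := congrArg par h
    rw [map_mul, map_mul, map_mul, map_inv, par_Z12, par_W12, par_t] at this
    exact absurd this (by decide)
  · have := congrArg par h
    rw [map_mul, map_mul, map_mul, map_inv, par_Z12, par_t] at this
    exact absurd this (by decide)
  · -- then c3 = W12, so c3 commutes with b3
    exfalso
    have h1 : Z12⁻¹ * (t .c3 * Z12) = W12 := by
      have h2 := congrArg (· * t .c3) h
      simp only [mul_assoc, sq, mul_one] at h2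
      rw [(W_comm_c3 hF).eq, ← mul_assoc (t .c3) (t .c3), sq, one_mul] at h2
      exact h2
    have h3 : t .c3 = W12 := by
      rw [inv_mul_eq_iff_eq_mul, ← Z_comm_W.symm.eq] at h1
      exact mul_right_cancel h1
    exact hF (flat_of_c3_b3 (eq_of_comm (by decide) (h3 ▸ W_comm_E7 .b3 (by decide))))

end Cfsg.Agent.Y555
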