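/-
The central element of W(E8) dies in the Y555 spider group: its image in a copy of the presented Fischer
group Fi23, which is simple, is central.
Main result: `Y555.Z12_eq_one`.
-/
import Cfsg.Agent.EqLemmas
import Cfsg.Agent.Lib.Y555.Central
import Cfsg.Agent.Lib.Y555.DerivConj
import Cfsg.Agent.S1697

set_option autoImplicit false
set_option maxRecDepth 100000

namespace Cfsg.Agent.Y555

open Cfsg.Spor Cfsg.Agent.CosetEnum Cfsg.Agent.CosetEnum.Data

/-- The nodes used for the copy of Fi23. -/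
abbrev lK : List Y := [.a, .b1, .c1, .d1, .e1, .b2, .c2, .b3, .c3, .d3]

/-- The nodes of Fi23 inside Y555. -/
def fiY : Fi23.Gen → Y
  | .a => .d3 | .b => .c3 | .c => .b3 | .d => .a | .e => .b1
  | .f => .c1 | .g => .d1 | .j => .e1 | .h => .b2 | .i => .c2

theorem fiY_mem (x : Fi23.Gen) : fiY x ∈ lK := by cases x <;> decide

theorem fiY_surj : ∀ x ∈ lK, ∃ z, fiY z = x := by
  intro x hx
  simp only [lK, List.mem_cons, List.not_mem_nil, or_false] at hx
  rcases hx with rfl | rfl | rfl | rfl | rfl | rfl | rfl | rfl | rfl | rfl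
  exacts [⟨.d, rfl⟩, ⟨.e, rfl⟩, ⟨.f, rfl⟩, ⟨.g, rfl⟩, ⟨.j, rfl⟩, ⟨.h, rfl⟩, ⟨.i, rfl⟩, ⟨.c, rfl⟩, ⟨.b, rfl⟩, ⟨.a, rfl⟩]

/-- The central element of W(E7) with long arm 3 and middle arm 1. -/
def W31 : P := rot (rot W12)

theorem W31_t : W31 = (t .a * t .b3 * t .b1 * t .b2 * t .c3 * t .c1 * t .d3) ^ 9 := by
  rw [W31, W12_t]
  simp only [map_pow, map_mul, rot_t, rotY]

theorem comm_word7 {g : P} (x1 x2 x3 x4 x5 x6 x7 : Y) (h : ∀ x ∈ [x1, x2, x3, x4, x5, x6, x7], Commute (t x) g) :
    Commute ((t x1 * t x2 * t x3 * t x4 * t x5 * t x6 * t x7) ^ 9) g :=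
  Commute.pow_left ((((((h x1 (by simp)).mul_left (h x2 (by simp))).mul_left (h x3 (by simp))).mul_left
    (h x4 (by simp))).mul_left (h x5 (by simp))).mul_left (h x6 (by simp)) |>.mul_left (h x7 (by simp))) 9

theorem W12_comm_d2 (hF : ¬Flat) : Commute W12 (t .d2) := by
  rw [W12_eq_W13 hF, W13_t]
  exact comm_word7 _ _ _ _ _ _ _ fun x hx => comm (by revert hx; cases x <;> decide)

theorem W12_comm_e2 : Commute W12 (t .e2) := by
  rw [W12_t]
  exact comm_word7 _ _ _ _ _ _ _ fun x hx => comm (by revert hx; cases x <;> decide)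

theorem W31_comm_K (hF : ¬Flat) : ∀ x ∈ lK, Commute W31 (t x) := by
  have key : ∀ y, Commute W12 (t y) → Commute W31 (t (rotY (rotY y))) := fun y hy => by
    have := (hy.map rot).map rot
    rwa [rot_t, rot_t] at this
  intro x hx
  simp only [lK, List.mem_cons, List.not_mem_nil, or_false] at hx
  rcases hx with rfl | rfl | rfl | rfl | rfl | rfl | rfl | rfl | rfl | rfl
  · exact key .a (W_comm_E7 _ (by decide))
  · exact key .b2 (W_comm_E7 _ (by decide))
  · exact key .c2 (W_comm_E7 _ (by decide))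
  · exact key .d2 (W12_comm_d2 hF)
  · exact key .e2 W12_comm_e2
  · exact key .b3 (W_comm_E7 _ (by decide))
  · exact key .c3 (W_comm_c3 hF)
  · exact key .b1 (W_comm_E7 _ (by decide))
  · exact key .c1 (W_comm_E7 _ (by decide))
  · exact key .d1 (W_comm_E7 _ (by decide))

theorem Z_comm_K (hF : ¬Flat) : ∀ x ∈ lK, Commute Z12 (t x) := by
  intro x hx
  simp only [lK, List.mem_cons, List.not_mem_nil, or_false] at hx
  rcases hx with rfl | rfl | rfl | rfl | rfl | rfl | rfl | rfl | rfl | rfl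
  case inr.inr.inr.inr.inr.inr.inr.inr.inl => exact Z_comm_c3 hF
  case inr.inr.inr.inr.inr.inr.inr.inr.inr =>
    rw [Z12_t]
    have h := fun (y : Y) (hy : coxLabel Bimonster.edges y .d3 ≤ 2) => comm hy
    exact Commute.pow_left ((((((((h .a (by decide)).mul_left (h .b1 (by decide))).mul_left (h .b2 (by decide))).mul_left
      (h .b3 (by decide))).mul_left (h .c1 (by decide))).mul_left (h .c2 (by decide))).mul_left
      (h .d1 (by decide))).mul_left (h .e1 (by decide))) 15
  all_goals exact Z_comm_E8 _ (by decide)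

/-- The conjugate Coxeter element gives the same central element. -/
theorem fi_E7 (hF : ¬Flat) :
    (t .d3 * t .c3 * t .b3 * t .a * t .b1 * t .c1 * t .b2) ^ 9 = W31 := by
  have h : ev (ySetup.lel conj_emb) conj.tgt = 1 := Setup.eq_one_x ySetup_gens y_letters conj_check (by decide +kernel)
  have hw : (conj.tgt.map fun i => conj_emb.getD i 0) = ySetup.wl yLetters
      (Bimonster.d3 * Bimonster.c3 * Bimonster.b3 * Bimonster.a * Bimonster.b1 * Bimonster.c1 * Bimonster.b2 *
        (Bimonster.d3 * Bimonster.c3 * Bimonster.b3 * Bimonster.d3 * Bimonster.c3 * Bimonster.d3) *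
        (Bimonster.a * Bimonster.b3 * Bimonster.b1 * Bimonster.b2 * Bimonster.c3 * Bimonster.c1 * Bimonster.d3)⁻¹ *
        (Bimonster.d3 * Bimonster.c3 * Bimonster.b3 * Bimonster.d3 * Bimonster.c3 * Bimonster.d3)⁻¹) := by
    decide +kernel
  rw [Setup.ev_lel, hw, ← Setup.mk_eq_ev ySetup_gens y_letters] at h
  have h' : t .d3 * t .c3 * t .b3 * t .a * t .b1 * t .c1 * t .b2 *
      (t .d3 * t .c3 * t .b3 * t .d3 * t .c3 * t .d3) *
      (t .a * t .b3 * t .b1 * t .b2 * t .c3 * t .c1 * t .d3)⁻¹ *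
      (t .d3 * t .c3 * t .b3 * t .d3 * t .c3 * t .d3)⁻¹ = 1 := by
    simp only [map_mul, map_inv] at h
    exact h
  set g := t .d3 * t .c3 * t .b3 * t .d3 * t .c3 * t .d3 with hg
  set C := t .a * t .b3 * t .b1 * t .b2 * t .c3 * t .c1 * t .d3 with hC
  have e : t .d3 * t .c3 * t .b3 * t .a * t .b1 * t .c1 * t .b2 = g * C * g⁻¹ := by
    rw [mul_inv_eq_one] at h'
    rw [eq_mul_inv_iff_mul_eq]
    rw [mul_inv_eq_iff_eq_mul] at h'
    exact h'
  rw [e, conj_pow, ← W31_t]
  have hc := W31_comm_K hF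
  have hgc : Commute W31 g := by
    rw [hg]
    exact (((((hc .d3 (by decide)).mul_right (hc .c3 (by decide))).mul_right (hc .b3 (by decide))).mul_right
      (hc .d3 (by decide))).mul_right (hc .c3 (by decide))).mul_right (hc .d3 (by decide))
  rw [← hgc.eq, mul_assoc, mul_inv_cancel, mul_one]

theorem W31_mem : W31 ∈ sub lK := by
  rw [W31_t]
  exact pow_mem (mul_mem (mul_mem (mul_mem (mul_mem (mul_mem (mul_mem (t_mem (by decide)) (t_mem (by decide)))
    (t_mem (by decide))) (t_mem (by decide))) (t_mem (by decide))) (t_mem (by decide))) (t_mem (by decide))) 9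

theorem Z12_mem : Z12 ∈ sub lK := by
  rw [Z12_t]
  exact pow_mem (mul_mem (mul_mem (mul_mem (mul_mem (mul_mem (mul_mem (mul_mem (t_mem (by decide)) (t_mem (by decide)))
    (t_mem (by decide))) (t_mem (by decide))) (t_mem (by decide))) (t_mem (by decide))) (t_mem (by decide)))
    (t_mem (by decide))) 15

theorem par_W31 : par W31 = Multiplicative.ofAdd (1 : ZMod 2) := by
  rw [W31_t]; simp only [map_pow, map_mul, par_t]; decide

theorem W31_zpow (hF : ¬Flat) (k : ℤ) (hp : par (W31 ^ k) = 1) : W31 ^ k = 1 := by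
  have h2 : W31 * W31 = 1 := by
    rw [W31, ← map_mul, ← map_mul, W12_sq hF, map_one, map_one]
  rcases Int.even_or_odd k with ⟨m, rfl⟩ | ⟨m, rfl⟩
  · rw [zpow_add, ← (Commute.refl W31).mul_zpow, h2, one_zpow]
  · rw [zpow_add, two_mul, zpow_add, ← (Commute.refl W31).mul_zpow, h2, one_zpow, one_mul, zpow_one,
      par_W31] at hp
    exact absurd hp (by decide)

theorem Z12_eq_one (hF : ¬Flat) : Z12 = 1 := by
  classical
  let K := sub lK
  let wK : K := ⟨W31, W31_mem⟩
  have hcomm : ∀ k : K, Commute wK k := fun k => Subtype.ext (comm_sub (W31_comm_K hF) _ k.2).eq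
  let N : Subgroup K := Subgroup.zpowers wK
  haveI hN : N.Normal := ⟨fun n hn g => by
    obtain ⟨k, rfl⟩ := Subgroup.mem_zpowers_iff.mp hn
    rw [← ((hcomm g).zpow_left k).eq, mul_assoc, mul_inv_cancel, mul_one]
    exact Subgroup.mem_zpowers_iff.mpr ⟨k, rfl⟩⟩
  -- the images of the generators of Fi23
  let f' : Fi23.Gen → K := fun x => ⟨t (fiY x), t_mem (fiY_mem x)⟩
  have hval : ∀ r : FreeGroup Fi23.Gen, ((FreeGroup.lift f' r : K) : P) = FreeGroup.lift (fun x => t (fiY x)) r :=
    fun r => DFunLike.congr_fun (FreeGroup.ext_hom (f := K.subtype.comp (FreeGroup.lift f'))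
      (g := FreeGroup.lift fun x => t (fiY x)) (fun x => by simp [f'])) r
  have hrel : ∀ r ∈ coxRelators Fi23.edges ∪ {r | r ∈ Fi23.extra},
      FreeGroup.lift (fun x => t (fiY x)) r ∈ Subgroup.zpowers W31 := by
    rintro r (⟨x, _, y, _, rfl⟩ | hr)
    · have hlab : ∀ x y : Fi23.Gen, coxLabel Fi23.edges x y = coxLabel Bimonster.edges (fiY x) (fiY y) := by
        intro x y; cases x <;> cases y <;> rfl
      rw [map_pow, map_mul, FreeGroup.lift_apply_of, FreeGroup.lift_apply_of, hlab, cox]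
      exact one_mem _
    · simp only [Fi23.extra, Set.mem_ofPred_eq, List.mem_cons, List.not_mem_nil, or_false] at hr
      rcases hr with rfl | rfl
      · simp only [map_pow, map_mul, FreeGroup.lift_apply_of, fiY]
        have h := spider_conj _ _ _ (spider_conj _ _ _ spider_t)
        simp only [mul_assoc] at h ⊢
        rw [h]
        exact one_mem _
      · simp only [map_pow, map_mul, FreeGroup.lift_apply_of, fiY]
        rw [fi_E7 hF]
        exact Subgroup.mem_zpowers _
  let φ : Fi23 →* K ⧸ N := PresentedGroup.toGroup (f := fun x => (QuotientGroup.mk' N) (f' x)) (by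
    intro r hr
    have e : FreeGroup.lift (fun x => (QuotientGroup.mk' N) (f' x)) r = QuotientGroup.mk' N (FreeGroup.lift f' r) :=
      (DFunLike.congr_fun (FreeGroup.ext_hom (f := (QuotientGroup.mk' N).comp (FreeGroup.lift f'))
        (g := FreeGroup.lift fun x => (QuotientGroup.mk' N) (f' x)) (fun x => by simp)) r).symm
    rw [e, QuotientGroup.mk'_apply, QuotientGroup.eq_one_iff]
    obtain ⟨k, hk⟩ := Subgroup.mem_zpowers_iff.mp (hrel r hr)
    refine Subgroup.mem_zpowers_iff.mpr ⟨k, Subtype.ext ?_⟩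
    rw [hval, ← hk]
    simp [wK])
  have hsurj : ∀ g (hg : g ∈ K), ((⟨g, hg⟩ : K) : K ⧸ N) ∈ φ.range := by
    intro g hg
    induction hg using Subgroup.closure_induction with
    | mem y hy =>
      obtain ⟨x, hx, rfl⟩ := hy
      obtain ⟨z, rfl⟩ := fiY_surj x hx
      exact ⟨PresentedGroup.of z, PresentedGroup.toGroup.of _⟩
    | one => exact one_mem _
    | mul y z hy hz ihy ihz => exact mul_mem ihy ihz
    | inv y hy ih => exact inv_mem ih
  have hS : IsSimpleGroup Fi23 := Cfsg.Agent.S1697.main.1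
  -- the image is not commutative
  have hnc : ¬ ∀ u v : Fi23, φ u * φ v = φ v * φ u := by
    intro hall
    refine not_flat_ab1 hF ?_
    have ha : (.a : Y) ∈ lK := by decide
    have hb : (.b1 : Y) ∈ lK := by decide
    obtain ⟨u, hu⟩ := hsurj _ (t_mem ha)
    obtain ⟨v, hv⟩ := hsurj _ (t_mem hb)
    have h := hall u v
    rw [hu, hv, ← QuotientGroup.mk_mul, ← QuotientGroup.mk_mul, QuotientGroup.eq] at h
    obtain ⟨k, hk⟩ := Subgroup.mem_zpowers_iff.mp h
    have hk' : W31 ^ k = (t .a * t .b1)⁻¹ * (t .b1 * t .a) := congrArg Subtype.val hk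
    have h1 := W31_zpow hF k (by
      rw [hk', map_mul, map_inv, map_mul, map_mul, par_t, par_t]; decide)
    rw [hk', inv_mul_eq_one] at h1
    exact h1
  have hinj : Function.Injective φ := by
    rcases IsSimpleGroup.eq_bot_or_eq_top_of_normal φ.ker inferInstance with h | h
    · exact (MonoidHom.ker_eq_bot_iff φ).mp h
    · refine absurd (fun u v => ?_) hnc
      have e : ∀ u, φ u = 1 := fun u => MonoidHom.mem_ker.mp (h ▸ Subgroup.mem_top u)
      rw [e u, e v]
  have hcen : Subgroup.center Fi23 = ⊥ := by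
    rcases IsSimpleGroup.eq_bot_or_eq_top_of_normal (Subgroup.center Fi23) inferInstance with h | h
    · exact h
    · refine absurd (fun u v => ?_) hnc
      rw [← map_mul, ← map_mul, (Subgroup.mem_center_iff.mp (h ▸ Subgroup.mem_top v : v ∈ Subgroup.center Fi23)) u]
  obtain ⟨y, hy⟩ := hsurj _ Z12_mem
  have hy1 : y = 1 := by
    rw [← Subgroup.mem_bot, ← hcen, Subgroup.mem_center_iff]
    intro u
    refine hinj ?_
    rw [map_mul, map_mul, hy]
    refine QuotientGroup.induction_on (φ u) fun k => ?_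
    have e : (⟨Z12, Z12_mem⟩ : K) * k = k * ⟨Z12, Z12_mem⟩ := Subtype.ext (comm_sub (Z_comm_K hF) _ k.2).eq
    rw [← QuotientGroup.mk_mul, ← QuotientGroup.mk_mul, e]
  rw [hy1, map_one] at hy
  obtain ⟨k, hk⟩ := Subgroup.mem_zpowers_iff.mp ((QuotientGroup.eq_one_iff _).mp hy.symm)
  have hk' : W31 ^ k = Z12 := congrArg Subtype.val hk
  rw [← hk']
  exact W31_zpow hF k (by rw [hk', par_Z12])

end Cfsg.Agent.Y555
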