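/-
The spider relation implies that each end node equals the central element of a W(E7).
Main result: `Y555.arm_relations`.
-/
import Cfsg.Agent.EqLemmas
import Cfsg.Agent.Lib.Y555.Kill
import Cfsg.Agent.Lib.Y555.Deriv422

set_option autoImplicit false
set_option maxRecDepth 100000

namespace Cfsg.Agent.Y555

open Cfsg.Spor Cfsg.Agent.CosetEnum Cfsg.Agent.CosetEnum.Data

theorem f1_mem (hF : ¬Flat) : t .f1 ∈ sub l422 := by
  have hx : ∀ w ∈ in422_xrel, ev (ySetup.lel in422_emb) w = 1 := by
    intro w hw
    simp only [in422_xrel, List.mem_singleton] at hw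
    have e : lev in422_emb w = 1 := by
      rw [lev_wl wordZ (by subst hw; decide +kernel), ← Z12]
      exact Z12_eq_one hF
    exact e
  have h := Setup.fixes_x (hs := l422.map FreeGroup.of) ySetup_gens y_letters in422_check hx (by decide +kernel)
  rw [closureOf_map] at h
  have e : lev in422_emb in422.tgt = t .f1 := by
    rw [show in422.tgt = [5] from rfl]
    exact lev_single .f1 (by decide)
  rw [← e]
  exact h

theorem f1_eq : t .f1 = W12 := by
  by_cases hF : Flat
  · have hw : ∀ x, t x = t .a := hF
    rw [W12_t, hw .f1, hw .b1, hw .b2, hw .b3, hw .c1, hw .c2, hw .d1]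
    simp [pow_succ, mul_assoc, sq]
  have hc : ∀ x ∈ l322, Commute (t .f1) (t x) := fun x hx => comm (by revert hx; cases x <;> decide)
  have hmem : t .f1 ∈ sub l322 := by
    rcases of_Y422 (f1_mem hF) hc with h | h
    · exact h
    · rwa [Z12_eq_one hF, inv_one, one_mul] at h
  rcases of_Y322 hF hmem (fun x hx => hc x (by revert hx; cases x <;> decide)) with h | h | h | h
  · have := congrArg par h
    rw [par_t, par.map_one] at this
    exact absurd this (by decide)
  · exact h
  · exact absurd (flat_of_c3_b3 (eq_of_comm (by decide) (h ▸ hc .b3 (by decide)))) hF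
  · have := congrArg par h
    rw [map_mul, par_W12, par_t, par_t] at this
    exact absurd this (by decide)

theorem rel12 : mk (Bimonster.f1 * ((Bimonster.a * Bimonster.b1 * Bimonster.b2 * Bimonster.b3 * Bimonster.c1 *
    Bimonster.c2 * Bimonster.d1) ^ 9)⁻¹) = 1 := by
  rw [map_mul, map_inv, mk_of, f1_eq]
  exact mul_inv_cancel W12

theorem transfer {r : FreeGroup Y} (h : mk r = 1) :
    mk (FreeGroup.map rotY r) = 1 ∧ mk (FreeGroup.map swapY r) = 1 :=
  ⟨by rw [← rot_mk, h, map_one], by rw [← swap_mk, h, map_one]⟩

/-- All further relators of the Bimonster presentation hold. -/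
theorem arm_relations : ∀ r ∈ Bimonster.extra, mk r = 1 := by
  have h12 := rel12
  have h13 := (transfer h12).2
  have h23 := (transfer h12).1
  have h21 := (transfer h13).1
  have h31 := (transfer h23).1
  have h32 := (transfer h21).1
  simp only [map_mul, map_inv, map_pow, FreeGroup.map.of, rotY, swapY] at h13 h23 h21 h31 h32
  intro r hr
  simp only [Bimonster.extra, List.mem_cons, List.not_mem_nil, or_false] at hr
  rcases hr with rfl | rfl | rfl | rfl | rfl | rfl | rfl
  · exact mk_spider
  all_goals simp only [map_mul, map_inv, map_pow] at h12 ⊢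
  · exact h12
  · exact h13
  · exact h21
  · exact h23
  · exact h31
  · exact h32

end Cfsg.Agent.Y555
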